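import Groth.Agent.FlatMisc.FibreDimScheme
import Groth.Agent.S9777

/-!
# Local fibre dimension under base change and closed immersion
-/

set_option autoImplicit false

universe u

open AlgebraicGeometry CategoryTheory Limits TopologicalSpace Topology

namespace Groth.Agent.FibStage

/-- Local fibre dimension is bounded by witnesses on affine opens. -/
theorem fibreDimAt_le_iff {X S : Scheme.{u}} (f : X ⟶ S) (x : X) (n : ℕ) :
    FlatMor.fibreDimAt f x ≤ n ↔ ∃ O : X.Opens, IsAffineOpen O ∧ x ∈ O ∧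
      topologicalKrullDim ↥((O.ι ≫ f).fiber (f x)) ≤ n := by
  rw [FlatMisc.FibreDimScheme.fibreDimAt_eq]
  constructor
  · intro h
    have : Nonempty {U : Opens ↥(f ⁻¹' {f x}) // (⟨x, rfl⟩ : f ⁻¹' {f x}) ∈ U} := ⟨⟨⊤, trivial⟩⟩
    obtain ⟨⟨W, hxW⟩, hW⟩ := ciInf_mem fun U : {U : Opens ↥(f ⁻¹' {f x}) //
      (⟨x, rfl⟩ : f ⁻¹' {f x}) ∈ U} => topologicalKrullDim (U.1 : Set ↥(f ⁻¹' {f x}))
    replace hW : topologicalKrullDim (W : Set ↥(f ⁻¹' {f x})) ≤ n := le_trans (le_of_eq hW) h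
    obtain ⟨W', hW'o, hW'⟩ := isOpen_induced_iff.mp W.2
    obtain ⟨O, hO, hxO, hOW⟩ : ∃ O : X.Opens, IsAffineOpen O ∧ x ∈ O ∧ (O : Set X) ⊆ W' := by
      obtain ⟨_, ⟨O, hO, rfl⟩, hxO, hOW⟩ :=
        X.isBasis_affineOpens.exists_subset_of_mem_open (show x ∈ W' by
          have h1 : (⟨x, rfl⟩ : f ⁻¹' {f x}) ∈ Subtype.val ⁻¹' W' := hW' ▸ hxW
          exact h1) hW'o
      exact ⟨O, hO, hxO, hOW⟩
    refine ⟨O, hO, hxO, le_trans ?_ hW⟩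
    rw [((O.ι ≫ f).fiberHomeo (f x)).isHomeomorph.topologicalKrullDim_eq]
    have hmem : ∀ p : ↥((O.ι ≫ f) ⁻¹' {f x}), (⟨O.ι p.1, p.2⟩ : f ⁻¹' {f x}) ∈ W := fun p => by
      exact (Set.ext_iff.mp hW' _).mp (hOW (O.range_ι.le (Set.mem_range_self p.1)))
    refine IsInducing.topologicalKrullDim_le
      (f := fun p : ↥((O.ι ≫ f) ⁻¹' {f x}) => (⟨⟨O.ι p.1, p.2⟩, hmem p⟩ : (W : Set ↥(f ⁻¹' {f x})))) ?_
    exact IsInducing.of_comp (Continuous.subtype_mk (Continuous.subtype_mk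
      (O.ι.continuous.comp continuous_subtype_val) _) _) (continuous_subtype_val.comp continuous_subtype_val)
      (O.ι.isEmbedding.isInducing.comp IsInducing.subtypeVal)
  · rintro ⟨O, -, hxO, hO⟩
    rw [((O.ι ≫ f).fiberHomeo (f x)).isHomeomorph.topologicalKrullDim_eq] at hO
    refine iInf_le_of_le ⟨⟨Subtype.val ⁻¹' (O : Set X), O.2.preimage continuous_subtype_val⟩, hxO⟩ (le_trans ?_ hO)
    refine IsInducing.topologicalKrullDim_le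
      (f := fun p : (Subtype.val ⁻¹' (O : Set X) : Set ↥(f ⁻¹' {f x})) =>
        (⟨(⟨p.1.1, p.2⟩ : O.toScheme), p.1.2⟩ : ↥((O.ι ≫ f) ⁻¹' {f x}))) ?_
    exact IsInducing.of_comp (Continuous.subtype_mk (Continuous.subtype_mk (by fun_prop) _) _)
      (O.ι.continuous.comp continuous_subtype_val) (IsInducing.subtypeVal.comp IsInducing.subtypeVal)

/-- A closed immersion into a base change does not increase the local fibre dimension. -/
theorem fibreDimAt_le_of_mono {X S X' S' : Scheme.{u}} (f : X ⟶ S) [LocallyOfFiniteType f]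
    [QuasiSeparatedSpace S] (g : S' ⟶ S) (f' : X' ⟶ S') (l : X' ⟶ pullback f g)
    [IsClosedImmersion l] (hl : l ≫ pullback.snd f g = f') (x : X') (n : ℕ)
    (h : FlatMor.fibreDimAt f (pullback.fst f g (l x)) ≤ n) : FlatMor.fibreDimAt f' x ≤ n := by
  obtain ⟨O, hO, hxO, hdim⟩ := (fibreDimAt_le_iff f _ n).mp h
  let p := pullback.fst f g
  haveI : CompactSpace O.toScheme := isCompact_iff_compactSpace.mp hO.isCompact
  haveI : QuasiCompact (O.ι ≫ f) := inferInstance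
  have hc : IsPullback (p ∣_ O) ((p ⁻¹ᵁ O).ι ≫ pullback.snd f g) (O.ι ≫ f) g :=
    (isPullback_morphismRestrict p O).paste_vert (IsPullback.of_hasPullback f g)
  have hcd := Groth.Agent.S9777.result (O.ι ≫ f) g _ _ hc (f' x)
  have hfx : g (f' x) = f (p (l x)) := by
    rw [← hl, ← Scheme.Hom.comp_apply, ← Scheme.Hom.comp_apply, ← Scheme.Hom.comp_apply]
    exact congrArg (fun k : X' ⟶ S => k x) (by simp [p, pullback.condition])
  rw [hfx] at hcd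
  have hd' : topologicalKrullDim ↥(((l ⁻¹ᵁ p ⁻¹ᵁ O).ι ≫ f').fiber (f' x)) ≤ n := by
    refine le_trans ?_ (hcd.trans_le hdim)
    rw [(((l ⁻¹ᵁ p ⁻¹ᵁ O).ι ≫ f').fiberHomeo (f' x)).isHomeomorph.topologicalKrullDim_eq,
      ((((p ⁻¹ᵁ O).ι ≫ pullback.snd f g)).fiberHomeo (f' x)).isHomeomorph.topologicalKrullDim_eq]
    refine IsInducing.topologicalKrullDim_le (f := fun q : ↥(((l ⁻¹ᵁ p ⁻¹ᵁ O).ι ≫ f') ⁻¹' {f' x}) =>
      (⟨(⟨l ((l ⁻¹ᵁ p ⁻¹ᵁ O).ι q.1), (l ⁻¹ᵁ p ⁻¹ᵁ O).range_ι.le (Set.mem_range_self q.1)⟩ : (p ⁻¹ᵁ O).toScheme), by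
        show pullback.snd f g (l ((l ⁻¹ᵁ p ⁻¹ᵁ O).ι q.1)) = f' x
        rw [← Scheme.Hom.comp_apply, hl]
        exact q.2⟩ : ↥(((p ⁻¹ᵁ O).ι ≫ pullback.snd f g) ⁻¹' {f' x}))) ?_
    exact IsInducing.of_comp
      (Continuous.subtype_mk (Continuous.subtype_mk
        (l.continuous.comp ((l ⁻¹ᵁ p ⁻¹ᵁ O).ι.continuous.comp continuous_subtype_val)) _) _)
      ((p ⁻¹ᵁ O).ι.continuous.comp continuous_subtype_val)
      (l.isEmbedding.isInducing.comp ((l ⁻¹ᵁ p ⁻¹ᵁ O).ι.isEmbedding.isInducing.comp IsInducing.subtypeVal))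
  -- shrink to an affine witness
  refine le_trans (le_of_eq (FlatMisc.FibreDimScheme.fibreDimAt_eq f' x)) ?_
  rw [((((l ⁻¹ᵁ p ⁻¹ᵁ O).ι ≫ f')).fiberHomeo (f' x)).isHomeomorph.topologicalKrullDim_eq] at hd'
  refine iInf_le_of_le ⟨⟨Subtype.val ⁻¹' ((l ⁻¹ᵁ p ⁻¹ᵁ O : X'.Opens) : Set X'),
    (l ⁻¹ᵁ p ⁻¹ᵁ O).2.preimage continuous_subtype_val⟩, hxO⟩ (le_trans ?_ hd')
  refine IsInducing.topologicalKrullDim_le
    (f := fun q : (Subtype.val ⁻¹' ((l ⁻¹ᵁ p ⁻¹ᵁ O : X'.Opens) : Set X') : Set ↥(f' ⁻¹' {f' x})) =>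
      (⟨(⟨q.1.1, q.2⟩ : (l ⁻¹ᵁ p ⁻¹ᵁ O).toScheme), q.1.2⟩ : ↥(((l ⁻¹ᵁ p ⁻¹ᵁ O).ι ≫ f') ⁻¹' {f' x}))) ?_
  exact IsInducing.of_comp (Continuous.subtype_mk (Continuous.subtype_mk (by fun_prop) _) _)
    ((l ⁻¹ᵁ p ⁻¹ᵁ O).ι.continuous.comp continuous_subtype_val)
    (IsInducing.subtypeVal.comp IsInducing.subtypeVal)

end Groth.Agent.FibStage
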