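import Groth.Agent.FibStage.Local
import Groth.Agent.RedSub.Basic

/-!
# Fibre dimension of a limit is attained at a stage
-/

set_option autoImplicit false

universe u

open AlgebraicGeometry CategoryTheory Limits TopologicalSpace Topology

namespace Groth.Agent.FibStage

theorem exists_stage {I : Type u} [SmallCategory I] [IsCofiltered I]
    (DX DS : I ⥤ Scheme.{u}) (φ : DX ⟶ DS) (cX : Cone DX) (cS : Cone DS)
    (hX : IsLimit cX) (hS : IsLimit cS)
    [∀ (i j : I) (a : i ⟶ j), IsAffineHom (DS.map a)] [∀ i, CompactSpace (DS.obj i)]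
    [∀ i, QuasiSeparatedSpace (DS.obj i)] [∀ i, LocallyOfFiniteType (φ.app i)] [∀ i, QuasiCompact (φ.app i)]
    (hcl : ∀ (i j : I) (a : i ⟶ j), IsClosedImmersion (pullback.lift (DX.map a) (φ.app i) (φ.naturality a)))
    (f : cX.pt ⟶ cS.pt) (hf : ∀ i, f ≫ cS.π.app i = cX.π.app i ≫ φ.app i) (d : ℕ)
    (hd : ∀ s : cS.pt, topologicalKrullDim ↥(f.fiber s) ≤ d) :
    ∃ i : I, ∀ s : DS.obj i, topologicalKrullDim ↥((φ.app i).fiber s) ≤ d := by
  by_contra hne
  -- transition maps are affine
  haveI : ∀ {i j : I} (a : i ⟶ j), IsAffineHom (DX.map a) := fun {i j} a => by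
    haveI := hcl i j a
    haveI : IsAffineHom (pullback.fst (φ.app j) (DS.map a)) :=
      MorphismProperty.pullback_fst _ _ inferInstance
    rw [← pullback.lift_fst (DX.map a) (φ.app i) (φ.naturality a)]
    infer_instance
  haveI : ∀ i, CompactSpace (DX.obj i) := fun i => QuasiCompact.compactSpace_of_compactSpace (φ.app i)
  let E : ∀ i, Set (DX.obj i) := fun i => {x | ¬ FlatMor.fibreDimAt (φ.app i) x ≤ d}
  have hEc : ∀ i, IsClosed (E i) := fun i => isOpen_compl_iff.mp (by
    show IsOpen {x | ¬ FlatMor.fibreDimAt (φ.app i) x ≤ d}ᶜ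
    rw [show {x | ¬ FlatMor.fibreDimAt (φ.app i) x ≤ d}ᶜ = {x | FlatMor.fibreDimAt (φ.app i) x ≤ d} from
      Set.ext fun x => not_not]
    exact FlatMisc.FibreDimScheme.isOpen_fibreDimAt_le (φ.app i) d)
  have hEne : ∀ i, (E i).Nonempty := fun i => by
    by_contra h
    refine hne ⟨i, fun s => (FlatMisc.FibreDimScheme.topDim_fiber_le_iff (φ.app i) s d).mpr fun x _ => ?_⟩
    by_contra h'
    exact h ⟨x, h'⟩
  obtain ⟨x, hx⟩ := exists_mem_of_isClosed_of_nonempty DX cX hX E hEc hEne
    (fun i => (hEc i).isCompact) (fun {j i} a y hy h => hy (by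
      haveI := hcl j i a
      refine fibreDimAt_le_of_mono (φ.app i) (DS.map a) (φ.app j)
        (pullback.lift (DX.map a) (φ.app j) (φ.naturality a))
        (hl := pullback.lift_snd _ _ _) (n := d) (x := y) ?_
      · rw [← Scheme.Hom.comp_apply, pullback.lift_fst]
        exact h))
  let s := f x
  let Y : I → Scheme.{u} := fun i => pullback (φ.app i) (cS.π.app i)
  let q : ∀ i, Y i ⟶ cS.pt := fun i => pullback.snd _ _
  let t : ∀ {i j : I}, (i ⟶ j) → (Y i ⟶ Y j) := fun {i j} a =>
    pullback.lift (pullback.fst _ _ ≫ DX.map a) (pullback.snd _ _) (by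
      rw [Category.assoc, φ.naturality, ← Category.assoc, pullback.condition, Category.assoc, cS.w])
  have t_fst : ∀ {i j : I} (a : i ⟶ j), t a ≫ pullback.fst _ _ = pullback.fst _ _ ≫ DX.map a :=
    fun a => pullback.lift_fst _ _ _
  have t_q : ∀ {i j : I} (a : i ⟶ j), t a ≫ q j = q i := fun a => pullback.lift_snd _ _ _
  have t_comp : ∀ {i j k : I} (a : i ⟶ j) (b : j ⟶ k), t (a ≫ b) = t a ≫ t b := fun a b => by
    apply pullback.hom_ext
    · rw [t_fst, Category.assoc, t_fst, ← Category.assoc, t_fst, Category.assoc, DX.map_comp]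
    · exact (t_q _).trans (((Category.assoc _ _ _).trans ((congrArg (t a ≫ ·) (t_q b)).trans (t_q a))).symm)
  have t_closed : ∀ {i j : I} (a : i ⟶ j), IsClosedImmersion (t a) := fun {i j} a => by
    let m : Y j ⟶ pullback (φ.app j) (DS.map a) :=
      pullback.lift (pullback.fst _ _) (pullback.snd _ _ ≫ cS.π.app i) (by
        rw [pullback.condition, Category.assoc, cS.w])
    have h1 : IsPullback m (q j) (pullback.snd (φ.app j) (DS.map a)) (cS.π.app i) := by
      refine IsPullback.of_right (h₁₂ := pullback.fst (φ.app j) (DS.map a)) (h₂₂ := DS.map a) (v₁₃ := φ.app j) ?_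
        (pullback.lift_snd _ _ _) (IsPullback.of_hasPullback _ _)
      rw [pullback.lift_fst, cS.w]
      exact IsPullback.of_hasPullback _ _
    have h2 : IsPullback (pullback.fst (φ.app i) (cS.π.app i)) (t a)
        (pullback.lift (DX.map a) (φ.app i) (φ.naturality a)) m := by
      refine IsPullback.of_bot (v₂₂ := pullback.snd (φ.app j) (DS.map a)) (h₃₁ := cS.π.app i) (v₂₁ := q j) ?_ ?_ h1
      · rw [pullback.lift_snd, pullback.lift_snd]
        exact IsPullback.of_hasPullback _ _
      · apply pullback.hom_ext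
        · rw [Category.assoc, pullback.lift_fst, Category.assoc, pullback.lift_fst, t_fst]
        · rw [Category.assoc, pullback.lift_snd, Category.assoc, pullback.lift_snd, ← Category.assoc]
          exact pullback.condition.trans (congrArg (· ≫ cS.π.app i) (t_q a).symm)
    exact MorphismProperty.of_isPullback h2 (hcl i j a)
  -- a stage where the image in the fibre stabilizes
  obtain ⟨i₀⟩ := IsCofiltered.nonempty (C := I)
  haveI : LocallyOfFiniteType (q i₀) := MorphismProperty.pullback_snd _ _ inferInstance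
  haveI : QuasiCompact (q i₀) := MorphismProperty.pullback_snd _ _ inferInstance
  haveI : IsNoetherian ((q i₀).fiber s) :=
    haveI : IsLocallyNoetherian ((q i₀).fiber s) :=
      LocallyOfFiniteType.isLocallyNoetherian ((q i₀).fiberToSpecResidueField s)
    haveI : CompactSpace ((q i₀).fiber s) :=
      QuasiCompact.compactSpace_of_compactSpace ((q i₀).fiberToSpecResidueField s)
    {}
  let A : (Σ i, i ⟶ i₀) → Closeds ((q i₀).fiber s) := fun o =>
    ⟨(q i₀).fiberι s ⁻¹' Set.range (t o.2),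
      ((t_closed o.2).base_closed.isClosed_range).preimage ((q i₀).fiberι s).continuous⟩
  obtain ⟨_, ⟨⟨i, a⟩, rfl⟩, hmin⟩ :=
    (wellFounded_lt (α := Closeds ((q i₀).fiber s))).has_min (Set.range A) ⟨_, ⟨⟨i₀, 𝟙 i₀⟩, rfl⟩⟩
  have hsurj : ∀ (j : I) (b : j ⟶ i), q i ⁻¹' {s} ⊆ Set.range (t b) := fun j b z hz => by
    have hz' : t a z ∈ q i₀ ⁻¹' {s} := by
      show q i₀ (t a z) = s
      rw [← Scheme.Hom.comp_apply, t_q]
      exact hz
    obtain ⟨w, hw⟩ : t a z ∈ Set.range ((q i₀).fiberι s) := ((q i₀).range_fiberι s).ge hz'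
    have hle : A ⟨j, b ≫ a⟩ ≤ A ⟨i, a⟩ := fun v hv => by
      obtain ⟨v', hv'⟩ := hv
      refine ⟨t b v', ?_⟩
      rw [← hv', t_comp, Scheme.Hom.comp_apply]
    have heq : A ⟨i, a⟩ ≤ A ⟨j, b ≫ a⟩ := by
      rcases eq_or_lt_of_le hle with h | h
      · exact h.ge
      · exact absurd h (hmin _ ⟨⟨j, b ≫ a⟩, rfl⟩)
    obtain ⟨v', hv'⟩ := heq (show w ∈ A ⟨i, a⟩ from ⟨z, hw.symm⟩)
    refine ⟨v', (t_closed a).base_closed.injective ?_⟩
    show t a (t b v') = t a z
    rw [← hw, ← hv', t_comp, Scheme.Hom.comp_apply]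
  -- the reduced fibre maps to the limit
  let F : Closeds (Y i) := ⟨closure (q i ⁻¹' {s}), isClosed_closure⟩
  let R := (Scheme.IdealSheafData.vanishingIdeal (⊤ : Closeds ((q i).fiber s))).subscheme
  let r : R ⟶ Y i := (Scheme.IdealSheafData.vanishingIdeal (⊤ : Closeds ((q i).fiber s))).subschemeι ≫ (q i).fiberι s
  have hr : Set.range r ⊆ q i ⁻¹' {s} := by
    rintro _ ⟨v, rfl⟩
    rw [← (q i).range_fiberι s, Scheme.Hom.comp_apply]
    exact Set.mem_range_self _
  have hlift : ∀ o : Over i, ∃ ℓ : R ⟶ Y o.left, ℓ ≫ t o.hom = r := fun o =>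
    haveI := t_closed o.hom
    RedSub.exists_lift_closed _ r (hr.trans (hsurj _ _))
  choose ℓ hℓ using hlift
  have hnat : ∀ {o o' : Over i} (h : o ⟶ o'), ℓ o ≫ t h.left = ℓ o' := fun {o o'} h => by
    haveI := t_closed o'.hom
    rw [← cancel_mono (t o'.hom), Category.assoc, ← t_comp, Over.w h, hℓ, hℓ]
  have hiX := (Functor.Initial.isLimitWhiskerEquiv (Over.forget i) cX).symm hX
  have hiS := (Functor.Initial.isLimitWhiskerEquiv (Over.forget i) cS).symm hS
  let cR : Cone (Over.forget i ⋙ DX) :=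
    { pt := R
      π :=
        { app := fun o => ℓ o ≫ pullback.fst _ _
          naturality := fun o o' h => by
            show 𝟙 R ≫ ℓ o' ≫ _ = (ℓ o ≫ _) ≫ DX.map h.left
            rw [Category.id_comp, Category.assoc, ← t_fst, ← Category.assoc, hnat] } }
  let ρ : R ⟶ cX.pt := hiX.lift cR
  have hρ : ∀ o : Over i, ρ ≫ cX.π.app o.left = ℓ o ≫ pullback.fst _ _ := fun o => hiX.fac cR o
  have hid : ℓ (Over.mk (𝟙 i)) = r := by
    have h1 : t (𝟙 i) = 𝟙 (Y i) := by
      apply pullback.hom_ext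
      · rw [t_fst, DX.map_id, Category.comp_id, Category.id_comp]
      · rw [t_q, Category.id_comp]
    have h2 := hℓ (Over.mk (𝟙 i))
    exact (Category.comp_id _).symm.trans ((congrArg (ℓ (Over.mk (𝟙 i)) ≫ ·) h1.symm).trans h2)
  let e : cX.pt ⟶ Y i := pullback.lift (cX.π.app i) f (hf i).symm
  have hρf : ρ ≫ f = r ≫ q i := hiS.hom_ext fun o => by
    show (ρ ≫ f) ≫ cS.π.app o.left = (r ≫ q i) ≫ cS.π.app o.left
    rw [Category.assoc, hf, ← Category.assoc, hρ, Category.assoc, pullback.condition, ← Category.assoc (ℓ o)]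
    refine congrArg (· ≫ cS.π.app o.left) ?_
    rw [← hℓ o, Category.assoc, t_q]
  have hρe : ρ ≫ e = r := by
    apply pullback.hom_ext
    · rw [Category.assoc, pullback.lift_fst]
      exact (hρ (Over.mk (𝟙 i))).trans (congrArg (· ≫ _) hid)
    · rw [Category.assoc, pullback.lift_snd]
      exact hρf
  -- compare the dimensions
  have hmem : ∀ v, ρ v ∈ f ⁻¹' {s} := fun v => by
    show f (ρ v) = s
    rw [← Scheme.Hom.comp_apply, hρf, Scheme.Hom.comp_apply]
    exact hr (Set.mem_range_self v)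
  have hR : topologicalKrullDim ↥R ≤ d := by
    refine le_trans ?_ (hd s)
    rw [(f.fiberHomeo s).isHomeomorph.topologicalKrullDim_eq]
    refine IsInducing.topologicalKrullDim_le (f := Set.codRestrict ρ _ hmem) ?_
    refine IsInducing.of_comp (by exact ρ.continuous.codRestrict _) (e.continuous.comp continuous_subtype_val) ?_
    have hc : (e ∘ Subtype.val) ∘ Set.codRestrict ρ _ hmem = ⇑r := funext fun v => by
      show e (ρ v) = r v
      rw [← Scheme.Hom.comp_apply, hρe]
    rw [hc]
    exact r.isEmbedding.isInducing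
  have hqi : topologicalKrullDim ↥((q i).fiber s) ≤ d := by
    refine le_trans (le_of_eq ?_) hR
    refine (IsHomeomorph.topologicalKrullDim_eq (f := (Scheme.IdealSheafData.vanishingIdeal
      (⊤ : Closeds ((q i).fiber s))).subschemeι) ?_).symm
    refine isHomeomorph_iff_isEmbedding_surjective.mpr ⟨Scheme.Hom.isEmbedding _, fun v => ?_⟩
    exact (RedSub.range_vanishingIdeal_subschemeι _).ge (Set.mem_univ v)
  have hfin := Groth.Agent.S9777.result (φ.app i) (cS.π.app i) (q i) (pullback.fst _ _)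
    (IsPullback.of_hasPullback _ _) s
  rw [hfin] at hqi
  refine hx i ((FlatMisc.FibreDimScheme.topDim_fiber_le_iff (φ.app i) _ d).mp hqi _ ?_)
  show φ.app i (cX.π.app i x) = cS.π.app i (f x)
  rw [← Scheme.Hom.comp_apply, ← hf, Scheme.Hom.comp_apply]

end Groth.Agent.FibStage
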